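import Mathlib.LinearAlgebra.Projectivization.Action
import Mathlib.LinearAlgebra.Projectivization.Cardinality
import Cfsg.Agent.H829.GowDesc
import Cfsg.Agent.Blocks.CliffordCentral
import Cfsg.Agent.S0157

/-!
# The cuspidal character of `PGL₂(q)` attached to a character of order three (helper681; input: helper495)

`X` a finite group with a surjection on `PGL₂(q)`, `q ≡ 2 (mod 3)`.
-/

set_option autoImplicit false

namespace Cfsg.Agent.H681.HT

open Cfsg Matrix MulAction Module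
open scoped MatrixGroups LinearAlgebra.Projectivization

universe u v w

section lines

variable {F : Type u} [Field F]

/-- number of fixed lines (`helper495`) -/
noncomputable def fl (g : GL (Fin 2) F) : ℕ :=
  Nat.card {W : Submodule F (Fin 2 → F) // finrank F W = 1 ∧
    W ≤ W.comap (Matrix.toLin' (g : Matrix (Fin 2) (Fin 2) F))}

/-- the input of helper495 -/
structure Rho0 (ρ : IrrCharacter (GL (Fin 2) F)) : Prop where
  deg : (ρ : GL (Fin 2) F → ℂ) 1 = (Nat.card F : ℂ) - 1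
  scal : ∀ (c : Fˣ) (g : GL (Fin 2) F), (ρ : GL (Fin 2) F → ℂ) (GeneralLinearGroup.scalar (Fin 2) c * g) =
    (ρ : GL (Fin 2) F → ℂ) g
  reg : ∀ g : GL (Fin 2) F, ¬ 3 ∣ orderOf g → (ρ : GL (Fin 2) F → ℂ) g = (fl g : ℂ) - 2
  one : ∀ g : GL (Fin 2) F, fl g = 1 → (ρ : GL (Fin 2) F → ℂ) g = -1
  two : ∀ g : GL (Fin 2) F, fl g = 2 → (ρ : GL (Fin 2) F → ℂ) g = 0

theorem smul_eq_self_iff (g : GL (Fin 2) F) (p : ℙ F (Fin 2 → F)) :
    (ProjGenLinGroup.mk g : ProjGenLinGroup (Fin 2) F) • p = p ↔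
      p.submodule ≤ p.submodule.comap (Matrix.toLin' (g : Matrix (Fin 2) (Fin 2) F)) := by
  induction p using Projectivization.ind with | _ v hv =>
  rw [Projectivization.PGL.mk_smul_mk, Projectivization.mk_eq_mk_iff', Projectivization.submodule_mk,
    Submodule.span_singleton_le_iff_mem, Submodule.mem_comap, Submodule.mem_span_singleton]
  rfl

theorem card_fixedBy_mk (g : GL (Fin 2) F) :
    Nat.card (fixedBy (ℙ F (Fin 2 → F)) (ProjGenLinGroup.mk g : ProjGenLinGroup (Fin 2) F)) = fl g := by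
  rw [fl]
  refine Nat.card_congr ⟨fun p => ⟨p.1.submodule, p.1.finrank_submodule, (smul_eq_self_iff g p.1).1 p.2⟩,
    fun W => ⟨Projectivization.mk'' W.1 W.2.1, ?_⟩, fun p => ?_, fun W => ?_⟩
  · rw [mem_fixedBy, smul_eq_self_iff, Projectivization.submodule_mk'']
    exact W.2.2
  · exact Subtype.ext (Projectivization.mk''_submodule p.1)
  · exact Subtype.ext (Projectivization.submodule_mk'' W.1 W.2.1)

/-- three fixed lines: scalar -/
theorem mk_eq_one_of_three {g : GL (Fin 2) F} {p₁ p₂ p₃ : ℙ F (Fin 2 → F)} (h12 : p₁ ≠ p₂) (h13 : p₁ ≠ p₃)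
    (h23 : p₂ ≠ p₃) (h1 : (ProjGenLinGroup.mk g : ProjGenLinGroup (Fin 2) F) • p₁ = p₁)
    (h2 : (ProjGenLinGroup.mk g : ProjGenLinGroup (Fin 2) F) • p₂ = p₂)
    (h3 : (ProjGenLinGroup.mk g : ProjGenLinGroup (Fin 2) F) • p₃ = p₃) :
    (ProjGenLinGroup.mk g : ProjGenLinGroup (Fin 2) F) = 1 := by
  induction p₁ using Projectivization.ind with | _ v₁ hv₁ =>
  induction p₂ using Projectivization.ind with | _ v₂ hv₂ =>
  induction p₃ using Projectivization.ind with | _ v₃ hv₃ =>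
  rw [Projectivization.PGL.mk_smul_mk, Projectivization.mk_eq_mk_iff'] at h1 h2 h3
  obtain ⟨c₁, hc₁⟩ := h1
  obtain ⟨c₂, hc₂⟩ := h2
  obtain ⟨c₃, hc₃⟩ := h3
  have hli : LinearIndependent F ![v₁, v₂] := by
    rw [LinearIndependent.pair_iff' hv₁]
    intro a ha
    apply h12
    rw [Projectivization.mk_eq_mk_iff']
    have ha0 : a ≠ 0 := by
      rintro rfl
      exact hv₂ (by rw [← ha, zero_smul])
    exact ⟨a⁻¹, by rw [← ha, smul_smul, inv_mul_cancel₀ ha0, one_smul]⟩
  have hspan : Submodule.span F {v₁, v₂} = ⊤ := by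
    have h := hli.span_eq_top_of_card_eq_finrank' (by simp)
    rwa [Matrix.range_cons, Matrix.range_cons, Matrix.range_empty, Set.union_empty, Set.singleton_union] at h
  obtain ⟨a, b, hab⟩ : ∃ a b : F, a • v₁ + b • v₂ = v₃ := by
    have h : v₃ ∈ Submodule.span F {v₁, v₂} := by rw [hspan]; trivial
    exact Submodule.mem_span_pair.1 h
  have ha0 : a ≠ 0 := by
    rintro rfl
    apply h23
    rw [Projectivization.mk_eq_mk_iff']
    have hb0 : b ≠ 0 := by
      rintro rfl
      exact hv₃ (by rw [← hab, zero_smul, zero_smul, add_zero])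
    exact ⟨b⁻¹, by rw [← hab, zero_smul, zero_add, smul_smul, inv_mul_cancel₀ hb0, one_smul]⟩
  have hb0 : b ≠ 0 := by
    rintro rfl
    apply h13
    rw [Projectivization.mk_eq_mk_iff']
    exact ⟨a⁻¹, by rw [← hab, zero_smul, add_zero, smul_smul, inv_mul_cancel₀ ha0, one_smul]⟩
  replace hc₁ : c₁ • v₁ = (g : Matrix (Fin 2) (Fin 2) F) *ᵥ v₁ := hc₁
  replace hc₂ : c₂ • v₂ = (g : Matrix (Fin 2) (Fin 2) F) *ᵥ v₂ := hc₂
  replace hc₃ : c₃ • v₃ = (g : Matrix (Fin 2) (Fin 2) F) *ᵥ v₃ := hc₃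
  have h5 : (a * (c₃ - c₁)) • v₁ + (b * (c₃ - c₂)) • v₂ = 0 := by
    have h6 : c₃ • v₃ = a • (c₁ • v₁) + b • (c₂ • v₂) := by
      rw [hc₃, hc₁, hc₂, ← hab, Matrix.mulVec_add, Matrix.mulVec_smul, Matrix.mulVec_smul]
    have h7 : c₃ • (a • v₁ + b • v₂) - (a • (c₁ • v₁) + b • (c₂ • v₂)) = 0 := by rw [hab, h6, sub_self]
    rw [← h7]
    module
  obtain ⟨h8, h9⟩ := LinearIndependent.pair_iff.1 hli _ _ h5
  have e1 : c₁ = c₃ := (sub_eq_zero.1 ((mul_eq_zero.1 h8).resolve_left ha0)).symm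
  have e2 : c₂ = c₃ := (sub_eq_zero.1 ((mul_eq_zero.1 h9).resolve_left hb0)).symm
  rw [e1] at hc₁
  rw [e2] at hc₂
  have h10 : (g : Matrix (Fin 2) (Fin 2) F) = scalar (Fin 2) c₃ := by
    have h11 : Matrix.toLin' (g : Matrix (Fin 2) (Fin 2) F) = Matrix.toLin' (scalar (Fin 2) c₃) := by
      apply LinearMap.ext_on hspan
      rintro v (rfl | rfl)
      · rw [Matrix.toLin'_apply, Matrix.toLin'_apply, ← hc₁]
        ext i
        simp [Matrix.mulVec_diagonal]
      · rw [Matrix.toLin'_apply, Matrix.toLin'_apply, ← hc₂]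
        ext i
        simp [Matrix.mulVec_diagonal]
    exact Matrix.toLin'.injective h11
  rw [ProjGenLinGroup.mk_eq_one, Matrix.GeneralLinearGroup.mem_center_iff_val_mem_range_scalar]
  exact ⟨c₃, h10.symm⟩

/-- a transvection has exactly one fixed line -/
theorem exists_fl_one : ∃ g : GL (Fin 2) F, fl g = 1 := by
  obtain ⟨g, hg⟩ : ∃ g : GL (Fin 2) F, (g : Matrix (Fin 2) (Fin 2) F) = !![1, 1; 0, 1] :=
    ⟨GeneralLinearGroup.mkOfDetNeZero !![1, 1; 0, 1] (by simp [det_fin_two_of]), rfl⟩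
  refine ⟨g, ?_⟩
  rw [fl, Nat.card_eq_one_iff_unique]
  have key : ∀ W : {W : Submodule F (Fin 2 → F) // finrank F W = 1 ∧
      W ≤ W.comap (Matrix.toLin' (g : Matrix (Fin 2) (Fin 2) F))}, W.1 = Submodule.span F {![1, 0]} := by
    rintro ⟨W, hW, hg1⟩
    obtain ⟨v, hv, hvs⟩ := finrank_eq_one_iff'.1 hW
    have hv0 : (v : Fin 2 → F) ≠ 0 := fun h => hv (Subtype.ext h)
    have h1 := hg1 v.2
    rw [Submodule.mem_comap, Matrix.toLin'_apply, hg] at h1
    obtain ⟨c, hc⟩ := hvs ⟨_, h1⟩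
    have hc' := congrArg Subtype.val hc
    have h2 := congrFun hc' 0
    have h3 := congrFun hc' 1
    simp [Matrix.mulVec, dotProduct, Fin.sum_univ_two] at h2 h3
    have hb : (v : Fin 2 → F) 1 = 0 := by
      by_contra hb
      have h4 : c = 1 := by
        apply mul_right_cancel₀ hb
        rw [one_mul]
        exact h3
      rw [h4, one_mul] at h2
      exact hb (left_eq_add.1 h2)
    have ha : (v : Fin 2 → F) 0 ≠ 0 := by
      intro h
      apply hv0
      ext i
      fin_cases i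
      · exact h
      · exact hb
    have h4 : ![1, 0] ∈ W := by
      have h5 : ![(1 : F), 0] = ((v : Fin 2 → F) 0)⁻¹ • (v : Fin 2 → F) := by
        ext i
        fin_cases i
        · simp [ha]
        · simp [hb]
      rw [h5]
      exact W.smul_mem _ v.2
    refine (Submodule.eq_of_le_of_finrank_eq ?_ ?_).symm
    · rw [Submodule.span_singleton_le_iff_mem]; exact h4
    · rw [hW, finrank_span_singleton]
      intro h
      have := congrFun h 0
      simp at this
  refine ⟨⟨fun W W' => Subtype.ext ((key W).trans (key W').symm)⟩, ⟨⟨Submodule.span F {![1, 0]}, ?_, ?_⟩⟩⟩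
  · rw [finrank_span_singleton]
    intro h
    have := congrFun h 0
    simp at this
  · rw [Submodule.span_singleton_le_iff_mem, Submodule.mem_comap, Matrix.toLin'_apply, hg]
    have : !![(1 : F), 1; 0, 1] *ᵥ ![1, 0] = ![1, 0] := by
      ext i
      fin_cases i <;> simp [Matrix.mulVec, dotProduct, Fin.sum_univ_two]
    rw [this]
    exact Submodule.mem_span_singleton_self _

end lines

/-! ### orders -/

section card

variable (F : Type u) [Field F] [Finite F]

theorem card_pgl : Nat.card (ProjGenLinGroup (Fin 2) F) = Nat.card F * (Nat.card F ^ 2 - 1) := by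
  classical
  have := Fintype.ofFinite F
  have hq : 2 ≤ Nat.card F := Finite.one_lt_card
  have h1 : Nat.card (GL (Fin 2) F) = (Nat.card F ^ 2 - 1) * (Nat.card F ^ 2 - Nat.card F) := by
    rw [Matrix.card_GL_field, Fin.prod_univ_two, Nat.card_eq_fintype_card]
    simp
  have h2 : Nat.card (Subgroup.center (GL (Fin 2) F)) = Nat.card F - 1 := by
    rw [Matrix.GeneralLinearGroup.center_eq_range_scalar, ← Nat.card_units]
    refine (Nat.card_congr (MonoidHom.ofInjective (f := GeneralLinearGroup.scalar (Fin 2) (R := F)) ?_).toEquiv).symm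
    intro a b hab
    have h3 := congrFun (congrFun (congrArg (fun g : GL (Fin 2) F => (g : Matrix (Fin 2) (Fin 2) F)) hab) 0) 0
    exact Units.ext (by simpa using h3)
  have h3 := Subgroup.card_mul_index (Subgroup.center (GL (Fin 2) F))
  have h4 : (Subgroup.center (GL (Fin 2) F)).index = Nat.card (ProjGenLinGroup (Fin 2) F) := rfl
  rw [h4, h1, h2] at h3
  have h5 : Nat.card F ^ 2 - Nat.card F = (Nat.card F - 1) * Nat.card F := by
    rw [Nat.sub_mul, one_mul, pow_two]
  rw [h5] at h3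
  have h6 : 0 < Nat.card F - 1 := by omega
  apply Nat.eq_of_mul_eq_mul_left h6
  rw [h3]
  ring

end card

/-! ### the character on `X` -/

section main

variable {F : Type u} [Field F] [Finite F] {X : Type v} [Group X] [Finite X]

/-- descent and inflation -/
theorem exists_rhoX {ρ₀ : IrrCharacter (GL (Fin 2) F)} (h : Rho0 ρ₀) (f : X →* ProjGenLinGroup (Fin 2) F)
    (hf : Function.Surjective f) : ∃ ρ : IrrCharacter X, ∀ (x : X) (g : GL (Fin 2) F), f x = ProjGenLinGroup.mk g →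
      (ρ : X → ℂ) x = (ρ₀ : GL (Fin 2) F → ℂ) g := by
  classical
  have : Finite (ProjGenLinGroup (Fin 2) F) := Finite.of_surjective _ ProjGenLinGroup.mk_surjective
  let ρb : ProjGenLinGroup (Fin 2) F → ℂ := fun y =>
    (ρ₀ : GL (Fin 2) F → ℂ) (Function.surjInv ProjGenLinGroup.mk_surjective y)
  have hb : ∀ g : GL (Fin 2) F, ρb (ProjGenLinGroup.mk g) = (ρ₀ : GL (Fin 2) F → ℂ) g := by
    intro g
    have h1 := Function.surjInv_eq (ProjGenLinGroup.mk_surjective (n := Fin 2) (R := F)) (ProjGenLinGroup.mk g)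
    obtain ⟨u, hu⟩ := ProjGenLinGroup.mk_eq_mk_iff.1 h1
    show (ρ₀ : GL (Fin 2) F → ℂ) _ = _
    have h2 : GeneralLinearGroup.scalar (Fin 2) u * Function.surjInv ProjGenLinGroup.mk_surjective
        (ProjGenLinGroup.mk g) = g := by
      rw [← hu]
      have h3 : GeneralLinearGroup.scalar (Fin 2) u ∈ Subgroup.center (GL (Fin 2) F) := by
        rw [Matrix.GeneralLinearGroup.center_eq_range_scalar]
        exact ⟨u, rfl⟩
      rw [hu]
      rw [← Subgroup.mem_center_iff.1 h3 (Function.surjInv ProjGenLinGroup.mk_surjective (ProjGenLinGroup.mk g))]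
      exact hu
    rw [← h.scal u, h2]
  have hirr : IsIrrCharacter (ProjGenLinGroup (Fin 2) F) ρb := by
    refine Cfsg.Agent.H829.GowDesc.isIrr_of_comp_surj (ProjGenLinGroup.mk (n := Fin 2) (R := F))
      ProjGenLinGroup.mk_surjective ρb ?_
    have h1 : ρb ∘ (ProjGenLinGroup.mk (n := Fin 2) (R := F)) = (ρ₀ : GL (Fin 2) F → ℂ) := funext hb
    rw [h1]
    exact ρ₀.2
  refine ⟨⟨_, Cfsg.Agent.Blocks.CliffordCentral.isIrrCharacter_comp hirr f hf⟩, fun x g hg => ?_⟩
  show ρb (f x) = _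
  rw [hg, hb]

omit [Finite X] in
theorem not_dvd_orderOf {p : ℕ} (hp : p.Prime) (hq : ¬ p ∣ Nat.card F - 1) {f : X →* ProjGenLinGroup (Fin 2) F} {x : X}
    {g : GL (Fin 2) F} (hg : f x = ProjGenLinGroup.mk g) (hx : ¬ p ∣ orderOf x) : ¬ p ∣ orderOf g := by
  have h1 : (ProjGenLinGroup.mk (g ^ orderOf x) : ProjGenLinGroup (Fin 2) F) = 1 := by
    rw [map_pow, ← hg, ← map_pow, pow_orderOf_eq_one, map_one]
  rw [ProjGenLinGroup.mk_eq_one, Matrix.GeneralLinearGroup.center_eq_range_scalar] at h1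
  obtain ⟨u, hu⟩ := h1
  have h2 : g ^ (orderOf x * (Nat.card F - 1)) = 1 := by
    rw [pow_mul, ← hu, ← map_pow, ← Nat.card_units, pow_card_eq_one', map_one]
  intro h3
  have h4 := h3.trans (orderOf_dvd_of_pow_eq_one h2)
  rcases hp.dvd_mul.1 h4 with h5 | h5
  · exact hx h5
  · exact hq h5

variable {Y : Type w} [MulAction X Y] (e : Y ≃ ℙ F (Fin 2 → F)) {f : X →* ProjGenLinGroup (Fin 2) F}
  (he : ∀ (x : X) (y : Y), e (x • y) = f x • e y)

include he

omit [Finite F] [Finite X] in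
theorem card_fixedBy {x : X} {g : GL (Fin 2) F} (hg : f x = ProjGenLinGroup.mk g) :
    Nat.card (fixedBy Y x) = fl g := by
  rw [← card_fixedBy_mk]
  refine Nat.card_congr (e.subtypeEquiv fun y => ?_)
  rw [mem_fixedBy, mem_fixedBy, ← hg, ← he, EmbeddingLike.apply_eq_iff_eq]

omit [Finite F] [Finite X] in
theorem two_trans (hf : Function.Surjective f) : IsMultiplyPretransitive X Y 2 := by
  rw [is_two_pretransitive_iff]
  intro a b c d hab hcd
  have h0 : IsMultiplyPretransitive (SpecialLinearGroup (Fin 2) F) (ℙ F (Fin 2 → F)) 2 := inferInstance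
  obtain ⟨s, hs1, hs2⟩ := is_two_pretransitive_iff.1 h0 (e.injective.ne hab) (e.injective.ne hcd)
  have h2 : ∀ p : ℙ F (Fin 2 → F), (SpecialLinearGroup.toPGL s : ProjGenLinGroup (Fin 2) F) • p = s • p := by
    intro p
    induction p using Projectivization.ind with | _ v hv => rfl
  obtain ⟨x, hx⟩ := hf (SpecialLinearGroup.toPGL s)
  exact ⟨x, e.injective (by rw [he, hx, h2, hs1]), e.injective (by rw [he, hx, h2, hs2])⟩

/-- the number of fixed points is `0`, `1`, `2`, or the element is in the kernel -/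
theorem fix_cases (x : X) : Nat.card (fixedBy Y x) = 0 ∨ Nat.card (fixedBy Y x) = 1 ∨ Nat.card (fixedBy Y x) = 2 ∨
    f x = 1 := by
  classical
  have : Finite (ℙ F (Fin 2 → F)) := inferInstance
  have : Finite Y := Finite.of_equiv _ e.symm
  have := Fintype.ofFinite (fixedBy Y x)
  by_cases h3 : Nat.card (fixedBy Y x) ≤ 2
  · omega
  right; right; right
  rw [Nat.card_eq_fintype_card] at h3
  obtain ⟨a, b, c, hab, hac, hbc⟩ := Fintype.two_lt_card_iff.1 (not_le.1 h3)
  obtain ⟨g, hg⟩ := ProjGenLinGroup.mk_surjective (f x)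
  have hfix : ∀ y : fixedBy Y x, (ProjGenLinGroup.mk g : ProjGenLinGroup (Fin 2) F) • e y.1 = e y.1 := by
    intro y
    rw [hg, ← he, y.2]
  rw [← hg]
  exact mk_eq_one_of_three (fun h => hab (Subtype.ext (e.injective h))) (fun h => hac (Subtype.ext (e.injective h)))
    (fun h => hbc (Subtype.ext (e.injective h))) (hfix a) (hfix b) (hfix c)

theorem fix_ker {x : X} (hx : f x = 1) : Nat.card (fixedBy Y x) = Nat.card F + 1 := by
  have h1 : fixedBy Y x = Set.univ := by
    ext y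
    simp only [mem_fixedBy, Set.mem_univ, iff_true]
    apply e.injective
    rw [he, hx, one_smul]
  rw [h1, Nat.card_congr (Equiv.Set.univ Y), Nat.card_congr e, Projectivization.card_of_finrank_two]
  simp

/-- **The character on `X`**, from the character of `GL₂(q)` -/
theorem exists_rho_of {ρ₀ : IrrCharacter (GL (Fin 2) F)} (h : Rho0 ρ₀) (hq : Nat.card F % 3 = 2)
    (hf : Function.Surjective f) :
    ∃ ρ : IrrCharacter X, (∀ (x : X) (g : GL (Fin 2) F), f x = ProjGenLinGroup.mk g →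
        (ρ : X → ℂ) x = (ρ₀ : GL (Fin 2) F → ℂ) g) ∧ (ρ : X → ℂ) 1 = (Nat.card F : ℂ) - 1 ∧
      (∀ x x' : X, f x = f x' → (ρ : X → ℂ) x = (ρ : X → ℂ) x') ∧
      (∀ x : X, Nat.card (fixedBy Y x) = 1 → (ρ : X → ℂ) x = -1) ∧
      (∀ x : X, Nat.card (fixedBy Y x) = 2 → (ρ : X → ℂ) x = 0) ∧
      (∀ x : X, ¬ 3 ∣ orderOf x → (ρ : X → ℂ) x = (Nat.card (fixedBy Y x) : ℂ) - 2) ∧
      IsIrrCharacter X (fun x => (Nat.card (fixedBy Y x) : ℂ) - 1) ∧
      ∀ [Fintype X], classInner (ρ : X → ℂ) (fun x : X => ((((Nat.card (fixedBy Y x) : ℂ) - 1) ^ 2 : ℂ))) = 1 := by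
  classical
  have : Finite (ℙ F (Fin 2 → F)) := inferInstance
  have : Finite Y := Finite.of_equiv _ e.symm
  have hq2 : 2 ≤ Nat.card F := Finite.one_lt_card
  have hcY : Nat.card Y = Nat.card F + 1 := by
    rw [Nat.card_congr e, Projectivization.card_of_finrank_two]
    simp
  obtain ⟨ρ, hρ⟩ := exists_rhoX h f hf
  have hval : ∀ x : X, ∃ g : GL (Fin 2) F, f x = ProjGenLinGroup.mk g ∧ (ρ : X → ℂ) x = (ρ₀ : GL (Fin 2) F → ℂ) g ∧
      Nat.card (fixedBy Y x) = fl g := by
    intro x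
    obtain ⟨g, hg⟩ := ProjGenLinGroup.mk_surjective (f x)
    exact ⟨g, hg.symm, hρ x g hg.symm, card_fixedBy e he hg.symm⟩
  have hdeg : (ρ : X → ℂ) 1 = (Nat.card F : ℂ) - 1 := by
    rw [hρ 1 1 (by rw [map_one]; rfl), h.deg]
  have hker : ∀ x x' : X, f x = f x' → (ρ : X → ℂ) x = (ρ : X → ℂ) x' := by
    intro x x' hxx
    obtain ⟨g, hg⟩ := ProjGenLinGroup.mk_surjective (f x)
    rw [hρ x g hg.symm, hρ x' g (hxx ▸ hg.symm)]
  have hone : ∀ x : X, Nat.card (fixedBy Y x) = 1 → (ρ : X → ℂ) x = -1 := by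
    intro x hx
    obtain ⟨g, -, h2, h3⟩ := hval x
    rw [h2, h.one g (h3 ▸ hx)]
  have htwo : ∀ x : X, Nat.card (fixedBy Y x) = 2 → (ρ : X → ℂ) x = 0 := by
    intro x hx
    obtain ⟨g, -, h2, h3⟩ := hval x
    rw [h2, h.two g (h3 ▸ hx)]
  have hreg : ∀ x : X, ¬ 3 ∣ orderOf x → (ρ : X → ℂ) x = (Nat.card (fixedBy Y x) : ℂ) - 2 := by
    intro x hx
    obtain ⟨g, h1, h2, h3⟩ := hval x
    rw [h2, h3, h.reg g (not_dvd_orderOf Nat.prime_three (by omega) h1 hx)]
  have h2t := two_trans e he hf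
  have hpre : IsPretransitive X Y := by
    have := h2t
    exact isPretransitive_of_is_two_pretransitive
  have hSt : IsIrrCharacter X (fun x => (Nat.card (fixedBy Y x) : ℂ) - 1) :=
    (Cfsg.Agent.S0157.result Y (by omega)).2 h2t
  refine ⟨ρ, hρ, hdeg, hker, hone, htwo, hreg, hSt, ?_⟩
  intro _
  -- the sum of `ρ` is zero
  obtain ⟨g₁, hg₁⟩ := exists_fl_one (F := F)
  obtain ⟨x₁, hx₁⟩ := hf (ProjGenLinGroup.mk g₁)
  have hρ1 : (ρ : X → ℂ) ≠ 1 := by
    intro h1
    have h2 := hone x₁ (by rw [card_fixedBy e he hx₁, hg₁])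
    rw [h1, Pi.one_apply] at h2
    norm_num at h2
  have hsum : ∑ x : X, (ρ : X → ℂ) x = 0 := by
    have h1 := Cfsg.Agent.Characters.Core.classInner_irr_ne ρ.2 Cfsg.Agent.Characters.Core.isIrr_one hρ1
    rw [Cfsg.Agent.Characters.Core.classInner_def] at h1
    have h2 : (Nat.card X : ℂ) ≠ 0 := Nat.cast_ne_zero.2 Nat.card_pos.ne'
    rcases mul_eq_zero.1 h1 with h3 | h3
    · exact absurd h3 (inv_ne_zero h2)
    · simpa using h3
  have hsumSt : ∑ x : X, ((Nat.card (fixedBy Y x) : ℂ) - 1) ^ 2 = (Nat.card X : ℂ) := by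
    have h1 := Cfsg.Agent.Characters.Core.classInner_irr_self hSt
    rw [Cfsg.Agent.Characters.Core.classInner_def] at h1
    have h2 : (Nat.card X : ℂ) ≠ 0 := Nat.cast_ne_zero.2 Nat.card_pos.ne'
    have h3 := congrArg (fun z => (Nat.card X : ℂ) * z) h1
    simp only [mul_one] at h3
    rw [← mul_assoc, mul_inv_cancel₀ h2, one_mul] at h3
    rw [← h3]
    refine Finset.sum_congr rfl fun x _ => ?_
    rw [map_sub, map_one, Complex.conj_natCast]
    ring
  have hcard : (Nat.card X : ℂ) = Nat.card f.ker * ((Nat.card F : ℂ) ^ 3 - Nat.card F) := by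
    have h1 := Subgroup.card_mul_index f.ker
    have h2 : f.ker.index = Nat.card (ProjGenLinGroup (Fin 2) F) := by
      rw [Subgroup.index_ker, MonoidHom.range_eq_top.2 hf]
      exact Nat.card_congr Subgroup.topEquiv.toEquiv
    rw [h2, card_pgl] at h1
    rw [← h1, Nat.cast_mul, Nat.cast_mul, Nat.cast_sub (Nat.one_le_pow _ _ (by omega))]
    push_cast
    ring
  have hkersum : ∑ x : X, (if f x = 1 then (1 : ℂ) else 0) = Nat.card f.ker := by
    rw [Finset.sum_ite, Finset.sum_const_zero, add_zero, Finset.sum_const, nsmul_eq_mul, mul_one,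
      Nat.card_eq_fintype_card, Fintype.card_subtype]
    congr 2
    ext x
    simp
  have hpt : ∀ x : X, (ρ : X → ℂ) x * ((Nat.card (fixedBy Y x) : ℂ) - 1) ^ 2 =
      1 + (ρ : X → ℂ) x - ((Nat.card (fixedBy Y x) : ℂ) - 1) ^ 2 +
        ((Nat.card F : ℂ) ^ 3 - Nat.card F) * (if f x = 1 then (1 : ℂ) else 0) := by
    intro x
    by_cases hx : f x = 1
    · have h1 : (ρ : X → ℂ) x = (Nat.card F : ℂ) - 1 := by rw [hker x 1 (by rw [hx, map_one]), hdeg]
      rw [h1, fix_ker e he hx, if_pos hx]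
      push_cast
      ring
    · rw [if_neg hx]
      rcases fix_cases e he x with h1 | h1 | h1 | h1
      · rw [h1]
        push_cast
        ring
      · rw [hone x h1, h1]
        push_cast
        ring
      · rw [htwo x h1, h1]
        push_cast
        ring
      · exact absurd h1 hx
  rw [Cfsg.Agent.Characters.Core.classInner_def]
  have h1 : ∑ x : X, (ρ : X → ℂ) x * (starRingEnd ℂ) (((Nat.card (fixedBy Y x) : ℂ) - 1) ^ 2) = (Nat.card X : ℂ) := by
    have h2 : ∀ x : X, (ρ : X → ℂ) x * (starRingEnd ℂ) (((Nat.card (fixedBy Y x) : ℂ) - 1) ^ 2) =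
        1 + (ρ : X → ℂ) x - ((Nat.card (fixedBy Y x) : ℂ) - 1) ^ 2 +
        ((Nat.card F : ℂ) ^ 3 - Nat.card F) * (if f x = 1 then (1 : ℂ) else 0) := by
      intro x
      rw [← hpt x, map_pow, map_sub, map_one, Complex.conj_natCast]
    rw [Finset.sum_congr rfl fun x _ => h2 x, Finset.sum_add_distrib, Finset.sum_sub_distrib, Finset.sum_add_distrib,
      hsum, hsumSt, ← Finset.mul_sum, hkersum, Finset.sum_const, Finset.card_univ, nsmul_eq_mul, mul_one,
      ← Nat.card_eq_fintype_card, hcard]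
    ring
  rw [h1]
  exact inv_mul_cancel₀ (Nat.cast_ne_zero.2 Nat.card_pos.ne')

end main

end Cfsg.Agent.H681.HT
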