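import Cfsg.Agent.H681.HT.PglV
import Cfsg.Prelude.Def_ParabolicCharacters

/-!
# The cuspidal character `ρ`, the set `X ⧸ B` (helper681)
-/

set_option autoImplicit false

namespace Cfsg.Agent.H681.HT

open Cfsg Matrix MulAction Module
open scoped MatrixGroups LinearAlgebra.Projectivization

universe u v w

variable {F : Type u} [Field F] {X : Type v} [Group X] {f : X →* ProjGenLinGroup (Fin 2) F}

theorem pretransitive_pgl (a b : ℙ F (Fin 2 → F)) : ∃ g : ProjGenLinGroup (Fin 2) F, g • a = b := by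
  have h0 : IsMultiplyPretransitive (SpecialLinearGroup (Fin 2) F) (ℙ F (Fin 2 → F)) 2 := inferInstance
  have h1 : IsPretransitive (SpecialLinearGroup (Fin 2) F) (ℙ F (Fin 2 → F)) :=
    isPretransitive_of_is_two_pretransitive
  obtain ⟨s, hs⟩ := exists_smul_eq (SpecialLinearGroup (Fin 2) F) a b
  refine ⟨SpecialLinearGroup.toPGL s, ?_⟩
  rw [← hs]
  induction a using Projectivization.ind with | _ v hv => rfl

/-- the points of the line are the cosets of the stabiliser of a point -/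
theorem exists_equiv_quot (hf : Function.Surjective f) {B : Subgroup X} {p₀ : ℙ F (Fin 2 → F)}
    (hB : ∀ x, x ∈ B ↔ f x • p₀ = p₀) : ∃ e : (X ⧸ B) ≃ ℙ F (Fin 2 → F), ∀ (x : X) (y : X ⧸ B), e (x • y) = f x • e y := by
  have hwd : ∀ a b : X, (QuotientGroup.mk a : X ⧸ B) = QuotientGroup.mk b ↔ f a • p₀ = f b • p₀ := by
    intro a b
    rw [QuotientGroup.eq, hB, map_mul, map_inv, mul_smul, inv_smul_eq_iff]
    exact eq_comm
  let φ : X ⧸ B → ℙ F (Fin 2 → F) := Quotient.lift (fun x => f x • p₀) fun a b h => (hwd a b).1 (Quotient.sound h)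
  have hφ : ∀ a : X, φ (QuotientGroup.mk a) = f a • p₀ := fun a => rfl
  have hbij : Function.Bijective φ := by
    constructor
    · intro a b
      induction a using QuotientGroup.induction_on with | _ a =>
      induction b using QuotientGroup.induction_on with | _ b =>
      rw [hφ, hφ, ← hwd]
      exact id
    · intro p
      obtain ⟨g, hg⟩ := pretransitive_pgl p₀ p
      obtain ⟨x, hx⟩ := hf g
      exact ⟨QuotientGroup.mk x, by rw [hφ, hx, hg]⟩
  refine ⟨Equiv.ofBijective φ hbij, fun x y => ?_⟩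
  induction y using QuotientGroup.induction_on with | _ y =>
  show φ (QuotientGroup.mk (x * y)) = f x • φ (QuotientGroup.mk y)
  rw [hφ, hφ, map_mul, mul_smul]

/-- the same from the index -/
theorem mem_iff_of_index [Finite F] [Finite X] (hf : Function.Surjective f) {B : Subgroup X} {p₀ : ℙ F (Fin 2 → F)}
    (h1 : ∀ x ∈ B, f x • p₀ = p₀) (h2 : B.index = Nat.card F + 1) (x : X) : x ∈ B ↔ f x • p₀ = p₀ := by
  let S : Subgroup X := (stabilizer (ProjGenLinGroup (Fin 2) F) p₀).comap f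
  have hS : ∀ x, x ∈ S ↔ f x • p₀ = p₀ := fun x => by
    rw [Subgroup.mem_comap, mem_stabilizer_iff]
  obtain ⟨e, -⟩ := exists_equiv_quot hf hS
  have h3 : S.index = Nat.card F + 1 := by
    rw [Subgroup.index, Nat.card_congr e, Projectivization.card_of_finrank_two]
    simp
  have h4 : B ≤ S := fun x hx => (hS x).2 (h1 x hx)
  have h5 := Subgroup.relIndex_mul_index h4
  rw [h2, h3] at h5
  have h6 : B.relIndex S = 1 := Nat.eq_of_mul_eq_mul_right (by omega : 0 < Nat.card F + 1) (by rw [h5, one_mul])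
  have h7 : S ≤ B := Subgroup.relIndex_eq_one.1 h6
  exact ⟨h1 x, fun h => h7 ((hS x).2 h)⟩

open Classical in
/-- **The character `ρ`**, with `St = fixedPointCharacter B - 1`. -/
theorem exists_rho_B [Finite F] [Finite X] (hf : Function.Surjective f) {B : Subgroup X} {p₀ : ℙ F (Fin 2 → F)}
    (hB : ∀ x, x ∈ B ↔ f x • p₀ = p₀) (hq : Nat.card F % 3 = 2) :
    ∃ ρ : IrrCharacter X, (ρ : X → ℂ) 1 = (Nat.card F : ℂ) - 1 ∧
      (∀ x x' : X, f x = f x' → (ρ : X → ℂ) x = (ρ : X → ℂ) x') ∧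
      (∀ x : X, Nat.card (fixedBy (X ⧸ B) x) = 1 → (ρ : X → ℂ) x = -1) ∧
      (∀ x : X, Nat.card (fixedBy (X ⧸ B) x) = 2 → (ρ : X → ℂ) x = 0) ∧
      (∀ x : X, ¬ 3 ∣ orderOf x → (ρ : X → ℂ) x = fixedPointCharacter B x - 2) ∧
      IsIrrCharacter X (fun x => fixedPointCharacter B x - 1) ∧
      (∀ [Fintype X], classInner (fun x => (fixedPointCharacter B x - 1) * (fixedPointCharacter B x - 1))
        (ρ : X → ℂ) = 1) ∧
      (∀ M : Ideal AlgInt, IsPModular 3 M → ρ ∈ principalBlock M X) ∧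
      (∀ x : X, Nat.card (fixedBy (X ⧸ B) x) = 0 → f x ^ ((Nat.card F + 1) / 3) = 1 → (ρ : X → ℂ) x = -2) ∧
      (∀ x : X, Nat.card (fixedBy (X ⧸ B) x) = 0 → f x ^ ((Nat.card F + 1) / 3) ≠ 1 → (ρ : X → ℂ) x = 1) ∧
      (∀ x : X, Nat.card (fixedBy (X ⧸ B) x) = 0 ∨ Nat.card (fixedBy (X ⧸ B) x) = 1 ∨
        Nat.card (fixedBy (X ⧸ B) x) = 2 ∨ f x = 1) := by
  obtain ⟨e, he⟩ := exists_equiv_quot hf hB
  obtain ⟨ρ, h1, h2, h3, h4, h5, h6, h7, h8, h9, h10⟩ := exists_rho_full e he hq hf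
  refine ⟨ρ, h1, h2, h3, h4, h5, h6, ?_, h8, h9, h10, fix_cases e he⟩
  intro _
  have h11 := h7
  rw [Cfsg.Agent.Characters.Core.classInner_def] at h11 ⊢
  have h12 := congrArg (starRingEnd ℂ) h11
  rw [map_mul, map_inv₀, Complex.conj_natCast, map_one, map_sum] at h12
  refine Eq.trans ?_ h12
  congr 1
  refine Finset.sum_congr rfl fun x _ => ?_
  rw [map_mul, Complex.conj_conj, mul_comm]
  simp only [fixedPointCharacter]
  ring

end Cfsg.Agent.H681.HT
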